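import Mathlib

/-!
# Rank and regular elements of Lie algebras over fields
-/

set_option autoImplicit false
set_option linter.style.haveILetI false

noncomputable section

universe u v w

open TensorProduct LieAlgebra Module

namespace CartanRelLib

attribute [local instance 100] LieRing.ofAssociativeRing

theorem natTrailingDegree_map_of_injective {R S : Type*} [Semiring R] [Semiring S] {f : R →+* S}
    (hf : Function.Injective f) (p : Polynomial R) :
    (p.map f).natTrailingDegree = p.natTrailingDegree := by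
  rw [Polynomial.natTrailingDegree, Polynomial.natTrailingDegree, Polynomial.trailingDegree,
    Polynomial.trailingDegree, Polynomial.support_map_of_injective _ hf]

section General

variable (A : Type*) [CommRing A] {B : Type*} [CommRing B] [Algebra A B]
variable {L L' : Type*} [LieRing L] [LieAlgebra A L] [LieRing L'] [LieAlgebra A L']

/-- Base change of a morphism of Lie algebras. -/
def lieBaseChange (B : Type*) [CommRing B] [Algebra A B] (f : L →ₗ⁅A⁆ L') : B ⊗[A] L →ₗ⁅B⁆ B ⊗[A] L' where
  toLinearMap := f.toLinearMap.baseChange B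
  map_lie' {x y} := by
    induction x using TensorProduct.induction_on with
    | zero => simp
    | add a b ha hb => simp only [add_lie, AddHom.toFun_eq_coe, map_add] at *; rw [ha, hb]
    | tmul s l =>
      induction y using TensorProduct.induction_on with
      | zero => simp
      | add a b ha hb => simp only [lie_add, AddHom.toFun_eq_coe, map_add] at *; rw [ha, hb]
      | tmul t m => simp [ExtendScalars.bracket_tmul]

@[simp]
theorem lieBaseChange_apply (f : L →ₗ⁅A⁆ L') (x : B ⊗[A] L) :
    lieBaseChange A B f x = f.toLinearMap.baseChange B x := rfl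

/-- Base change of an isomorphism of Lie algebras. -/
def lieEquivBaseChange (B : Type*) [CommRing B] [Algebra A B] (e : L ≃ₗ⁅A⁆ L') :
    B ⊗[A] L ≃ₗ⁅B⁆ B ⊗[A] L' :=
  { lieBaseChange A B e.toLieHom, e.toLinearEquiv.baseChange A B L L' with
    toFun := lieBaseChange A B e.toLieHom
    invFun := (e.toLinearEquiv.baseChange A B L L').symm
    left_inv := (e.toLinearEquiv.baseChange A B L L').left_inv
    right_inv := (e.toLinearEquiv.baseChange A B L L').right_inv }

theorem lieEquivBaseChange_tmul (e : L ≃ₗ⁅A⁆ L') (b : B) (x : L) :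
    lieEquivBaseChange A B e (b ⊗ₜ x) = b ⊗ₜ e x := rfl

variable {A}

theorem ad_one_tmul (x : L) : ad B (B ⊗[A] L) (1 ⊗ₜ x) = (ad A L x).baseChange B :=
  LieModule.toEnd_baseChange A B L L x

theorem ad_pow_one_tmul (x y : L) (n : ℕ) :
    (ad B (B ⊗[A] L) ((1 : B) ⊗ₜ x) ^ n) ((1 : B) ⊗ₜ y) = (1 : B) ⊗ₜ ((ad A L x ^ n) y) := by
  rw [ad_one_tmul, ← LinearMap.baseChange_pow, LinearMap.baseChange_tmul]

theorem one_tmul_mem_engel {x y : L} (h : y ∈ LieSubalgebra.engel A x) :
    (1 : B) ⊗ₜ[A] y ∈ LieSubalgebra.engel B ((1 : B) ⊗ₜ[A] x) := by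
  rw [LieSubalgebra.mem_engel_iff] at h ⊢
  obtain ⟨n, hn⟩ := h
  exact ⟨n, by rw [ad_pow_one_tmul, hn, tmul_zero]⟩

/-- A nilpotent subalgebra lies in the Engel subalgebra of each of its elements. -/
theorem le_engel_of_isNilpotent (H : LieSubalgebra A L) [LieRing.IsNilpotent H] {x : L} (hx : x ∈ H) :
    H ≤ LieSubalgebra.engel A x := by
  intro y hy
  obtain ⟨n, hn⟩ := LieModule.isNilpotent_toEnd_of_isNilpotent A H H ⟨x, hx⟩
  rw [LieSubalgebra.mem_engel_iff]
  refine ⟨n, ?_⟩
  have h2 : (((ad A H ⟨x, hx⟩) ^ n) ⟨y, hy⟩ : L) = 0 := by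
    rw [show (ad A H ⟨x, hx⟩) ^ n = 0 from hn]; rfl
  rwa [LieSubalgebra.coe_ad_pow] at h2

theorem ad_lieEquiv (e : L ≃ₗ⁅A⁆ L') (x : L) : ad A L' (e x) = e.toLinearEquiv.conj (ad A L x) := by
  ext y
  have h := e.toLieHom.map_lie x (e.symm y)
  simp only [LieEquiv.coe_toLieHom, LieEquiv.apply_symm_apply] at h
  rw [LinearEquiv.conj_apply]
  exact h.symm

theorem map_engel (e : L ≃ₗ⁅A⁆ L') (x : L) :
    (LieSubalgebra.engel A x).map e.toLieHom = LieSubalgebra.engel A (e x) := by
  have h : ∀ (n : ℕ) (y : L), (ad A L' (e x) ^ n) (e y) = e ((ad A L x ^ n) y) := by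
    intro n
    induction n with
    | zero => intro y; rfl
    | succ n ih =>
      intro y
      rw [pow_succ, Module.End.mul_apply, pow_succ, Module.End.mul_apply, ← ih]
      exact congrArg _ (e.toLieHom.map_lie x y).symm
  ext y
  rw [LieSubalgebra.mem_engel_iff]
  constructor
  · rintro ⟨z, hz, rfl⟩
    obtain ⟨n, hn⟩ := (LieSubalgebra.mem_engel_iff A x z).1 hz
    exact ⟨n, (h n z).trans (by rw [hn]; exact map_zero e.toLinearEquiv)⟩
  · rintro ⟨n, hn⟩
    refine ⟨e.symm y, (LieSubalgebra.mem_engel_iff A x _).2 ⟨n, ?_⟩, e.apply_symm_apply y⟩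
    apply e.toLinearEquiv.injective
    rw [map_zero]
    refine (h n (e.symm y)).symm.trans ?_
    rwa [LieEquiv.apply_symm_apply]

end General

section Field

variable (K : Type*) [Field K]
variable {L : Type*} [LieRing L] [LieAlgebra K L] [Module.Finite K L]
variable {L' : Type*} [LieRing L'] [LieAlgebra K L'] [Module.Finite K L']

/-- The dimension of the Engel subalgebra, as a trailing degree. -/
theorem charpoly_lieEquiv (e : L ≃ₗ⁅K⁆ L') (x : L) :
    (ad K L' (e x)).charpoly = (ad K L x).charpoly := by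
  rw [ad_lieEquiv]; exact LinearEquiv.charpoly_conj _ _

theorem rank_eq_of_lieEquiv_of_infinite [Infinite K] (e : L ≃ₗ⁅K⁆ L') : rank K L = rank K L' := by
  refine le_antisymm ?_ ?_
  · obtain ⟨y, hy⟩ := exists_isRegular K L'
    refine (rank_le_natTrailingDegree_charpoly_ad K (e.symm y)).trans ?_
    rw [charpoly_lieEquiv K e.symm y, (isRegular_iff_natTrailingDegree_charpoly_eq_rank K y).1 hy]
  · obtain ⟨y, hy⟩ := exists_isRegular K L
    refine (rank_le_natTrailingDegree_charpoly_ad K (e y)).trans ?_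
    rw [charpoly_lieEquiv K e y, (isRegular_iff_natTrailingDegree_charpoly_eq_rank K y).1 hy]

variable (K' : Type*) [Field K'] [Algebra K K']

theorem natTrailingDegree_ad_one_tmul (x : L) :
    (ad K' (K' ⊗[K] L) ((1 : K') ⊗ₜ x)).charpoly.natTrailingDegree = (ad K L x).charpoly.natTrailingDegree := by
  rw [ad_one_tmul, LinearMap.charpoly_baseChange,
    natTrailingDegree_map_of_injective (algebraMap K K').injective]

variable (L) in
theorem rank_baseChange : rank K' (K' ⊗[K] L) = rank K L := by
  classical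
  let b := Module.Free.chooseBasis K L
  have hφ : LinearMap.tensorProduct K K' L L ∘ₗ ((ad K L).toLinearMap.baseChange K') =
      (ad K' (K' ⊗[K] L)).toLinearMap := by
    refine TensorProduct.AlgebraTensorModule.ext fun c x => ?_
    have h : c ⊗ₜ[K] x = c • ((1 : K') ⊗ₜ[K] x) := by rw [TensorProduct.smul_tmul', smul_eq_mul, mul_one]
    rw [h, map_smul, map_smul]
    congr 1
    simp only [LinearMap.coe_comp, Function.comp_apply, LinearMap.baseChange_tmul, LieHom.coe_toLinearMap]
    rw [ad_one_tmul]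
    ext y
    simp [LinearMap.tensorProduct]
  rw [rank_eq_natTrailingDegree K' (K' ⊗[K] L) (Algebra.TensorProduct.basis K' b), rank_eq_natTrailingDegree K L b,
    ← hφ, LinearMap.polyCharpoly_baseChange,
    natTrailingDegree_map_of_injective (MvPolynomial.map_injective _ (algebraMap K K').injective)]

theorem isRegular_one_tmul_iff (x : L) :
    IsRegular K' ((1 : K') ⊗ₜ[K] x) ↔ IsRegular K x := by
  rw [isRegular_iff_natTrailingDegree_charpoly_eq_rank, isRegular_iff_natTrailingDegree_charpoly_eq_rank,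
    natTrailingDegree_ad_one_tmul, rank_baseChange]

theorem rank_eq_of_lieEquiv (e : L ≃ₗ⁅K⁆ L') : rank K L = rank K L' := by
  haveI : Infinite (AlgebraicClosure K) := IsAlgClosed.instInfinite
  rw [← rank_baseChange K L (AlgebraicClosure K), ← rank_baseChange K L' (AlgebraicClosure K)]
  exact rank_eq_of_lieEquiv_of_infinite _ (lieEquivBaseChange K _ e)

theorem isRegular_lieEquiv_iff (e : L ≃ₗ⁅K⁆ L') (x : L) : IsRegular K (e x) ↔ IsRegular K x := by
  rw [isRegular_iff_natTrailingDegree_charpoly_eq_rank, isRegular_iff_natTrailingDegree_charpoly_eq_rank,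
    charpoly_lieEquiv K e x, rank_eq_of_lieEquiv K e]

open LieSubalgebra in
theorem engel_le_engel_of_isRegular_of_infinite [Infinite K] {x y : L} (hx : IsRegular K x)
    (hy : y ∈ engel K x) : engel K x ≤ engel K y := by
  set Ex : {engel K z | z ∈ engel K x} := ⟨engel K x, x, self_mem_engel _ _, rfl⟩
  suffices h : IsBot Ex from h ⟨engel K y, y, hy, rfl⟩
  refine engel_isBot_of_isMin ?_ (engel K x) Ex le_rfl ?_
  · exact Cardinal.natCast_le_aleph0.trans (Cardinal.infinite_iff.mp ‹Infinite K›)
  rintro ⟨_, z, hz, rfl⟩ hzx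
  suffices h : engel K z = engel K x from h.ge
  apply LieSubalgebra.toSubmodule_injective
  refine Submodule.eq_of_le_of_finrank_le hzx ?_
  change finrank K (engel K x) ≤ finrank K (engel K z)
  rw [(isRegular_iff_finrank_engel_eq_rank K x).1 hx]
  exact rank_le_finrank_engel K z

open LieSubalgebra in
theorem isNilpotent_engel_of_isRegular {x : L} (hx : IsRegular K x) : LieRing.IsNilpotent (engel K x) := by
  refine isNilpotent_of_forall_le_engel _ fun y hy z hz => ?_
  haveI : Infinite (AlgebraicClosure K) := IsAlgClosed.instInfinite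
  have h := engel_le_engel_of_isRegular_of_infinite (AlgebraicClosure K)
    ((isRegular_one_tmul_iff K (AlgebraicClosure K) x).2 hx) (one_tmul_mem_engel (B := AlgebraicClosure K) hy)
    (one_tmul_mem_engel (B := AlgebraicClosure K) hz)
  rw [mem_engel_iff] at h ⊢
  obtain ⟨n, hn⟩ := h
  refine ⟨n, ?_⟩
  rw [ad_pow_one_tmul] at hn
  exact (Module.FaithfullyFlat.one_tmul_eq_zero_iff K _ _).1 hn

open LieSubalgebra in
theorem engel_eq_of_isRegular (H : LieSubalgebra K L) [LieRing.IsNilpotent H]
    (hdim : finrank K H = rank K L) {x : L} (hxH : x ∈ H) (hx : IsRegular K x) : engel K x = H := by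
  symm
  apply LieSubalgebra.toSubmodule_injective
  refine Submodule.eq_of_le_of_finrank_le (le_engel_of_isNilpotent H hxH) ?_
  change finrank K (engel K x) ≤ finrank K H
  rw [hdim, (isRegular_iff_finrank_engel_eq_rank K x).1 hx]

open LieSubalgebra in
/-- Over an infinite field a Cartan subalgebra of rank dimension contains a regular element. -/
theorem exists_isRegular_mem [Infinite K] (H : LieSubalgebra K L) [H.IsCartanSubalgebra]
    (hdim : finrank K H = rank K L) : ∃ x ∈ H, IsRegular K x := by
  haveI : LieRing.IsNilpotent H := LieSubalgebra.IsCartanSubalgebra.nilpotent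
  obtain ⟨x, hxH, hmin⟩ : ∃ x ∈ H, ∀ y ∈ H, finrank K (engel K x) ≤ finrank K (engel K y) := by
    obtain ⟨x, hx, h⟩ := (InvImage.wf (fun y : H => finrank K (engel K (y : L))) Nat.lt_wfRel.wf).has_min
      Set.univ ⟨0, trivial⟩
    exact ⟨x, x.2, fun y hy => not_lt.1 (h ⟨y, hy⟩ trivial)⟩
  refine ⟨x, hxH, (isRegular_iff_finrank_engel_eq_rank K x).2 ?_⟩
  set Ex : {engel K z | z ∈ H} := ⟨engel K x, x, hxH, rfl⟩
  have hbot : IsBot Ex := by
    refine engel_isBot_of_isMin ?_ H Ex (le_engel_of_isNilpotent H hxH) ?_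
    · exact Cardinal.natCast_le_aleph0.trans (Cardinal.infinite_iff.mp ‹Infinite K›)
    rintro ⟨_, z, hz, rfl⟩ hzx
    suffices h : engel K z = engel K x from h.ge
    apply LieSubalgebra.toSubmodule_injective
    exact Submodule.eq_of_le_of_finrank_le hzx (hmin z hz)
  have : engel K x = H := by
    refine le_antisymm (fun y hy => ?_) (le_engel_of_isNilpotent H hxH)
    rw [← zeroRootSubalgebra_eq_of_is_cartan K L H, mem_zeroRootSubalgebra]
    exact fun z => (mem_engel_iff K (z : L) y).1 (hbot ⟨engel K (z : L), z, z.2, rfl⟩ hy)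
  rw [this, hdim]

end Field

end CartanRelLib
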