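import Mathlib
import Groth.Agent.GenFibNearLib.AssAlg

/-!
# Fibrewise nilpotent families of endomorphisms of a finite module
-/

set_option autoImplicit false
set_option linter.style.haveILetI false

noncomputable section

universe u

open TensorProduct

namespace CartanRelLib

section Words

variable {A : Type u} [CommRing A] {M : Type u} [AddCommGroup M] [Module A M]
variable {ι : Type u} [Finite ι] (T : ι → Module.End A M)

/-- The submodule generated by the values of the words of length `k`. -/
def wordRange : ℕ → Submodule A M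
  | 0 => ⊤
  | k + 1 => ⨆ i, (wordRange k).map (T i)

theorem wordRange_fg [Module.Finite A M] (k : ℕ) : (wordRange T k).FG := by
  induction k with
  | zero => exact Module.Finite.fg_top
  | succ k ih => exact Submodule.fg_iSup _ fun i => ih.map (T i)

omit [Finite ι] in
theorem wordRange_add_le {I : Ideal A} {k : ℕ} (h : wordRange T k ≤ I • ⊤) (l : ℕ) :
    wordRange T (l + k) ≤ I • wordRange T l := by
  induction l with
  | zero => simpa [wordRange] using h
  | succ l ih =>
    rw [show l + 1 + k = l + k + 1 by ring]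
    refine iSup_le fun i => ?_
    refine (Submodule.map_mono ih).trans ?_
    rw [Submodule.map_smul'']
    exact Submodule.smul_mono le_rfl (le_iSup (fun i => (wordRange T l).map (T i)) i)

/-- A family of endomorphisms that is nilpotent on every fibre is nilpotent. -/
theorem exists_wordRange_eq_bot [Module.Finite A M]
    (h : ∀ p : PrimeSpectrum A, ∃ k, ∀ v ∈ wordRange T k, (1 : p.asIdeal.ResidueField) ⊗ₜ[A] v = 0) :
    ∃ k, wordRange T k = ⊥ := by
  classical
  by_contra hne
  let S : Set (Ideal A) := {J | ∀ k, ¬ wordRange T k ≤ J • ⊤}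
  have hbot : (⊥ : Ideal A) ∈ S := fun k hk => hne ⟨k, le_bot_iff.1 (by simpa using hk)⟩
  obtain ⟨J, -, hJ⟩ := zorn_le_nonempty₀ S (fun c hc hchain J₀ hJ₀ => by
    refine ⟨sSup c, fun k hk => ?_, fun z hz => le_sSup hz⟩
    have hd : Directed (· ≤ ·) fun J : c => ((J : Ideal A) • ⊤ : Submodule A M) := fun a b => by
      rcases hchain.total a.2 b.2 with h | h
      · exact ⟨b, Submodule.smul_mono h le_rfl, le_rfl⟩
      · exact ⟨a, le_rfl, Submodule.smul_mono h le_rfl⟩
    haveI : Nonempty c := ⟨⟨J₀, hJ₀⟩⟩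
    rw [sSup_eq_iSup', Submodule.iSup_smul] at hk
    obtain ⟨s, hs⟩ := wordRange_fg T k
    rw [← hs, Submodule.span_le] at hk
    have : ∀ v : s, ∃ J : c, (v : M) ∈ ((J : Ideal A) • ⊤ : Submodule A M) := fun v =>
      (Submodule.mem_iSup_of_directed _ hd).1 (hk v.2)
    choose f hf using this
    obtain ⟨J₁, hJ₁⟩ := hd.finset_le (Finset.univ.image f)
    refine hc J₁.2 k ?_
    rw [← hs, Submodule.span_le]
    exact fun v hv => hJ₁ _ (Finset.mem_image_of_mem f (Finset.mem_univ _)) (hf ⟨v, hv⟩)) ⊥ hbot
  have hJS : J ∈ S := hJ.prop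
  have hmax : ∀ K, J < K → ∃ k, wordRange T k ≤ K • ⊤ := fun K hK => by
    by_contra hh
    push Not at hh
    exact hJ.not_gt hh hK
  have hprime : J.IsPrime := by
    constructor
    · intro htop
      exact hJS 0 (by rw [htop, Submodule.top_smul]; exact le_top)
    · intro a b hab
      by_contra! hn
      obtain ⟨ha, hb⟩ := hn
      obtain ⟨k, hk⟩ := hmax (J ⊔ Ideal.span {a}) (left_lt_sup.2 fun h => ha (h (Ideal.mem_span_singleton_self a)))
      obtain ⟨l, hl⟩ := hmax (J ⊔ Ideal.span {b}) (left_lt_sup.2 fun h => hb (h (Ideal.mem_span_singleton_self b)))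
      refine hJS (l + k) ?_
      refine (wordRange_add_le T hk l).trans ((Submodule.smul_mono le_rfl hl).trans ?_)
      rw [← Submodule.mul_smul]
      refine Submodule.smul_mono ?_ le_rfl
      rw [Ideal.sup_mul, Ideal.mul_sup, Ideal.mul_sup, Ideal.span_singleton_mul_span_singleton]
      exact sup_le (sup_le Ideal.mul_le_left Ideal.mul_le_left)
        (sup_le Ideal.mul_le_right ((Ideal.span_singleton_le_iff_mem _).2 hab))
  haveI := hprime
  obtain ⟨n, hn⟩ := h ⟨J, hprime⟩
  obtain ⟨s, hs⟩ := wordRange_fg T n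
  have hz : ∀ v : s, ∃ r : A, r ∉ J ∧ r • (v : M) ∈ J • (⊤ : Submodule A M) := fun v =>
    (GenFibNearLib.one_tmul_eq_zero_iff (v : M)).1 (hn v (hs ▸ Submodule.subset_span v.2))
  choose r hr hrm using hz
  let R₀ := ∏ v : s, r v
  have hR₀ : R₀ ∉ J := by
    intro h
    obtain ⟨v, -, hv⟩ := (hprime.prod_mem_iff).1 h
    exact hr v hv
  obtain ⟨k, hk⟩ := hmax (J ⊔ Ideal.span {R₀})
    (left_lt_sup.2 fun h => hR₀ (h (Ideal.mem_span_singleton_self _)))
  refine hJS (n + k) ((wordRange_add_le T hk n).trans ?_)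
  rw [Submodule.sup_smul]
  refine sup_le (Submodule.smul_mono le_rfl le_top) ?_
  rw [Submodule.ideal_span_singleton_smul, ← hs]
  intro x hx
  obtain ⟨w, hw, rfl⟩ := hx
  change w ∈ Submodule.span A (s : Set M) at hw
  change R₀ • w ∈ J • (⊤ : Submodule A M)
  induction hw using Submodule.span_induction with
  | mem v hv =>
    obtain ⟨c, hc⟩ : r ⟨v, hv⟩ ∣ R₀ := Finset.dvd_prod_of_mem r (Finset.mem_univ _)
    rw [hc, mul_comm, mul_smul]
    exact Submodule.smul_mem _ _ (hrm ⟨v, hv⟩)
  | zero => rw [smul_zero]; exact zero_mem _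
  | add x y _ _ hx hy => rw [smul_add]; exact add_mem hx hy
  | smul a x _ hx => rw [smul_comm]; exact Submodule.smul_mem _ _ hx

/-- A fibrewise nilpotent endomorphism of a finite module is nilpotent. -/
theorem isNilpotent_of_fibrewise [Module.Finite A M] (D : Module.End A M)
    (h : ∀ p : PrimeSpectrum A, IsNilpotent (D.baseChange p.asIdeal.ResidueField)) : IsNilpotent D := by
  have key : ∀ k, wordRange (fun _ : PUnit.{u+1} => D) k = LinearMap.range (D ^ k) := by
    intro k
    induction k with
    | zero => rw [pow_zero, Module.End.one_eq_id, LinearMap.range_id]; rfl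
    | succ k ih =>
      rw [wordRange, ciSup_const, ih, pow_succ', Module.End.mul_eq_comp, LinearMap.range_comp]
  obtain ⟨k, hk⟩ := exists_wordRange_eq_bot (fun _ : PUnit.{u+1} => D) fun p => by
    obtain ⟨k, hk⟩ := h p
    refine ⟨k, fun v hv => ?_⟩
    rw [key] at hv
    obtain ⟨w, rfl⟩ := hv
    rw [← LinearMap.baseChange_tmul, LinearMap.baseChange_pow, hk, LinearMap.zero_apply]
  exact ⟨k, LinearMap.range_eq_bot.1 (by rw [← key, hk])⟩

end Words

section Fibre

variable {A : Type u} [CommRing A] {M : Type u} [AddCommGroup M] [Module A M] (p : Ideal A) [p.IsPrime]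

/-- Every element of a fibre is a unit multiple of the image of a section. -/
theorem exists_smul_eq_tmul (x : p.ResidueField ⊗[A] M) :
    ∃ s : A, s ∉ p ∧ ∃ m : M, s • x = (1 : p.ResidueField) ⊗ₜ[A] m := by
  have hp1 : (1 : A) ∉ p := (Ideal.ne_top_iff_one p).1 ‹p.IsPrime›.ne_top
  induction x using TensorProduct.induction_on with
  | zero => exact ⟨1, hp1, 0, by simp⟩
  | tmul c m =>
    obtain ⟨z, rfl⟩ := IsLocalRing.residue_surjective (R := Localization.AtPrime p) c
    obtain ⟨a, s, rfl⟩ := IsLocalization.exists_mk'_eq p.primeCompl z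
    refine ⟨s, s.2, a • m, ?_⟩
    rw [TensorProduct.smul_tmul', tmul_smul, TensorProduct.smul_tmul']
    refine congrArg (· ⊗ₜ[A] m) ?_
    rw [Algebra.smul_def, Algebra.smul_def, mul_one, IsScalarTower.algebraMap_apply A (Localization.AtPrime p),
      IsScalarTower.algebraMap_apply A (Localization.AtPrime p) p.ResidueField a]
    change IsLocalRing.residue _ _ * IsLocalRing.residue _ _ = IsLocalRing.residue _ _
    rw [← map_mul, IsLocalization.mk'_spec']
  | add x y hx hy =>
    obtain ⟨s, hs, m, hm⟩ := hx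
    obtain ⟨t, ht, n, hn⟩ := hy
    refine ⟨s * t, fun h => (Ideal.IsPrime.mem_or_mem inferInstance h).elim hs ht, t • m + s • n, ?_⟩
    rw [smul_add, tmul_add, tmul_smul, tmul_smul, ← hm, ← hn, mul_smul, mul_smul]
    congr 1
    exact smul_comm s t x

theorem isUnit_algebraMap_residueField {s : A} (hs : s ∉ p) : IsUnit (algebraMap A p.ResidueField s) :=
  (Ne.isUnit fun h => hs (Ideal.algebraMap_residueField_eq_zero.1 h))

theorem smul_tmul_eq (s : A) (x : p.ResidueField ⊗[A] M) :
    s • x = algebraMap A p.ResidueField s • x := (algebraMap_smul p.ResidueField s x).symm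

end Fibre

end CartanRelLib
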