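import Mathlib
import Groth.Prelude.Def_W4sga3xiixivxvCartan
import Groth.Agent.CartanRelLib.Nilp
import Groth.Agent.CartanRelLib.Field

/-!
# Relative Cartan subalgebras and Engel subalgebras
-/

set_option autoImplicit false
set_option linter.style.haveILetI false
set_option maxHeartbeats 1000000

noncomputable section

universe u

open TensorProduct LieAlgebra Module

namespace CartanRelLib

attribute [local instance 100] LieRing.ofAssociativeRing

variable {A : Type u} [CommRing A] {L : Type u} [LieRing L] [LieAlgebra A L]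

section Tower

variable (A) (L)
variable (B C : Type u) [CommRing B] [CommRing C] [Algebra A B] [Algebra A C] [Algebra B C]
  [IsScalarTower A B C]

/-- Cancellation of a double base change of Lie algebras. -/
def cancelLie : C ⊗[B] (B ⊗[A] L) ≃ₗ⁅C⁆ C ⊗[A] L :=
  { AlgebraTensorModule.cancelBaseChange A B C C L with
    map_lie' := fun {x y} => by
      simp only [AddHom.toFun_eq_coe, LinearMap.coe_toAddHom, LinearEquiv.coe_coe]
      induction x using TensorProduct.induction_on with
      | zero => simp
      | add a b ha hb => simp only [add_lie, map_add, ha, hb]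
      | tmul s z =>
        induction y using TensorProduct.induction_on with
        | zero => simp
        | add a b ha hb => simp only [lie_add, map_add, ha, hb]
        | tmul t w =>
          induction z using TensorProduct.induction_on with
          | zero => simp
          | add a b ha hb => simp only [tmul_add, add_lie, map_add, ha, hb]
          | tmul b l =>
            induction w using TensorProduct.induction_on with
            | zero => simp
            | add a b ha hb => simp only [tmul_add, lie_add, map_add, ha, hb]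
            | tmul c m =>
              rw [ExtendScalars.bracket_tmul, ExtendScalars.bracket_tmul,
                AlgebraTensorModule.cancelBaseChange_tmul, AlgebraTensorModule.cancelBaseChange_tmul,
                AlgebraTensorModule.cancelBaseChange_tmul, ExtendScalars.bracket_tmul,
                Algebra.smul_mul_assoc, Algebra.mul_smul_comm, smul_smul] }

theorem cancelLie_tmul (c : C) (b : B) (l : L) :
    cancelLie A L B C (c ⊗ₜ[B] (b ⊗ₜ[A] l)) = (b • c) ⊗ₜ[A] l :=
  AlgebraTensorModule.cancelBaseChange_tmul ..

end Tower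

section Transfer

variable [Module.Finite A L]
variable (K K' : Type u) [Field K] [Field K'] [Algebra A K] [Algebra A K'] [Algebra K K'] [IsScalarTower A K K']

theorem rank_tower : rank K' (K' ⊗[A] L) = rank K (K ⊗[A] L) := by
  rw [← rank_eq_of_lieEquiv K' (cancelLie A L K K'), rank_baseChange]

theorem isRegular_tower (x : L) :
    IsRegular K' ((1 : K') ⊗ₜ[A] x) ↔ IsRegular K ((1 : K) ⊗ₜ[A] x) := by
  rw [← isRegular_one_tmul_iff K K', ← isRegular_lieEquiv_iff K' (cancelLie A L K K'), cancelLie_tmul, one_smul]

variable (B : Type u) [CommRing B] [Algebra A B] [Algebra B K] [IsScalarTower A B K]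

theorem rank_baseChange_ring : rank K (K ⊗[B] (B ⊗[A] L)) = rank K (K ⊗[A] L) :=
  rank_eq_of_lieEquiv K (cancelLie A L B K)

theorem isRegular_baseChange_ring (x : L) :
    IsRegular K ((1 : K) ⊗ₜ[B] ((1 : B) ⊗ₜ[A] x)) ↔ IsRegular K ((1 : K) ⊗ₜ[A] x) := by
  rw [← isRegular_lieEquiv_iff K (cancelLie A L B K), cancelLie_tmul, one_smul]

variable {B}

theorem rank_residue (q : PrimeSpectrum B) :
    rank q.asIdeal.ResidueField (q.asIdeal.ResidueField ⊗[B] (B ⊗[A] L)) =
      rank (PrimeSpectrum.comap (algebraMap A B) q).asIdeal.ResidueField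
        ((PrimeSpectrum.comap (algebraMap A B) q).asIdeal.ResidueField ⊗[A] L) := by
  letI := (Ideal.ResidueField.mapₐ (PrimeSpectrum.comap (algebraMap A B) q).asIdeal q.asIdeal
    (Algebra.ofId A B) rfl).toRingHom.toAlgebra
  haveI : IsScalarTower A (PrimeSpectrum.comap (algebraMap A B) q).asIdeal.ResidueField q.asIdeal.ResidueField :=
    IsScalarTower.of_algebraMap_eq fun x => ((Ideal.ResidueField.mapₐ (PrimeSpectrum.comap (algebraMap A B) q).asIdeal
      q.asIdeal (Algebra.ofId A B) rfl).commutes x).symm
  rw [rank_baseChange_ring, rank_tower (PrimeSpectrum.comap (algebraMap A B) q).asIdeal.ResidueField]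

theorem isRegular_residue (q : PrimeSpectrum B) (x : L) :
    IsRegular q.asIdeal.ResidueField ((1 : q.asIdeal.ResidueField) ⊗ₜ[B] ((1 : B) ⊗ₜ[A] x)) ↔
      IsRegular (PrimeSpectrum.comap (algebraMap A B) q).asIdeal.ResidueField
        ((1 : (PrimeSpectrum.comap (algebraMap A B) q).asIdeal.ResidueField) ⊗ₜ[A] x) := by
  letI := (Ideal.ResidueField.mapₐ (PrimeSpectrum.comap (algebraMap A B) q).asIdeal q.asIdeal
    (Algebra.ofId A B) rfl).toRingHom.toAlgebra
  haveI : IsScalarTower A (PrimeSpectrum.comap (algebraMap A B) q).asIdeal.ResidueField q.asIdeal.ResidueField :=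
    IsScalarTower.of_algebraMap_eq fun x => ((Ideal.ResidueField.mapₐ (PrimeSpectrum.comap (algebraMap A B) q).asIdeal
      q.asIdeal (Algebra.ofId A B) rfl).commutes x).symm
  rw [isRegular_baseChange_ring, isRegular_tower (PrimeSpectrum.comap (algebraMap A B) q).asIdeal.ResidueField]

end Transfer

section Module

variable {M : Type u} [AddCommGroup M] [Module A M]

/-- An endomorphism surjective on every fibre of a finite module is surjective. -/
theorem surjective_of_fibrewise [Module.Finite A M] (D : Module.End A M)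
    (h : ∀ p : PrimeSpectrum A, Function.Surjective (D.baseChange p.asIdeal.ResidueField)) :
    Function.Surjective D := by
  let C := M ⧸ LinearMap.range D
  have h0 : IsNilpotent (1 : Module.End A C) := by
    refine isNilpotent_of_fibrewise _ fun p => ⟨1, ?_⟩
    have hz : ∀ z : p.asIdeal.ResidueField ⊗[A] C, z = 0 := by
      intro z
      obtain ⟨y, rfl⟩ := (LinearMap.range D).mkQ.lTensor_surjective p.asIdeal.ResidueField
        (LinearMap.range D).mkQ_surjective z
      obtain ⟨w, rfl⟩ := h p y
      induction w using TensorProduct.induction_on with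
      | zero => simp
      | add a b ha hb => simp only [map_add, ha, hb, add_zero]
      | tmul c m =>
        rw [LinearMap.baseChange_tmul, LinearMap.lTensor_tmul,
          show (LinearMap.range D).mkQ (D m) = 0 from (Submodule.Quotient.mk_eq_zero _).2 ⟨m, rfl⟩, tmul_zero]
    exact LinearMap.ext fun z => hz _
  obtain ⟨n, hn⟩ := h0
  intro y
  have : (LinearMap.range D).mkQ y = 0 := by
    have := LinearMap.congr_fun hn ((LinearMap.range D).mkQ y)
    rwa [one_pow, Module.End.one_apply, LinearMap.zero_apply] at this
  exact (Submodule.Quotient.mk_eq_zero _).1 this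

/-- Every element of the fibre killed by a direct summand's quotient comes from the summand. -/
theorem mem_baseChange_iff_mkQ (H : Submodule A M) (B : Type u) [CommRing B] [Algebra A B] (z : B ⊗[A] M) :
    z ∈ H.baseChange B ↔ H.mkQ.baseChange B z = 0 := by
  have hex : Function.Exact (LinearMap.lTensor B H.subtype) (LinearMap.lTensor B H.mkQ) :=
    lTensor_exact B (LinearMap.exact_subtype_mkQ H) H.mkQ_surjective
  exact (hex z).symm

theorem exists_retraction (H : Submodule A M) [Module.Projective A (M ⧸ H)] :
    ∃ r : M →ₗ[A] H, r ∘ₗ H.subtype = LinearMap.id := by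
  obtain ⟨s, hs⟩ := Module.projective_lifting_property H.mkQ LinearMap.id H.mkQ_surjective
  refine ⟨LinearMap.codRestrict H (LinearMap.id - s ∘ₗ H.mkQ) fun x => ?_, ?_⟩
  · rw [← Submodule.Quotient.mk_eq_zero, LinearMap.sub_apply, Submodule.Quotient.mk_sub, LinearMap.comp_apply]
    have := LinearMap.congr_fun hs (H.mkQ x)
    simp only [LinearMap.comp_apply, LinearMap.id_apply, Submodule.mkQ_apply] at this ⊢
    rw [this, sub_self]
  · ext x
    have h0 : H.mkQ (x : M) = 0 := (Submodule.Quotient.mk_eq_zero _).2 x.2
    simp only [LinearMap.comp_apply, LinearMap.codRestrict_apply, LinearMap.sub_apply, Submodule.subtype_apply,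
      LinearMap.id_apply, h0, map_zero, sub_zero]

theorem finite_of_projective_quotient [Module.Finite A M] (H : Submodule A M) [Module.Projective A (M ⧸ H)] :
    Module.Finite A H := by
  obtain ⟨r, hr⟩ := exists_retraction H
  exact Module.Finite.of_surjective r fun x => ⟨x, LinearMap.congr_fun hr x⟩

theorem projective_of_projective_quotient [Module.Projective A M] (H : Submodule A M)
    [Module.Projective A (M ⧸ H)] : Module.Projective A H := by
  obtain ⟨r, hr⟩ := exists_retraction H
  exact Module.Projective.of_split H.subtype r hr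

theorem baseChange_subtype_injective (H : Submodule A M) [Module.Projective A (M ⧸ H)]
    (B : Type u) [CommRing B] [Algebra A B] : Function.Injective (H.subtype.baseChange B) := by
  obtain ⟨r, hr⟩ := exists_retraction H
  refine Function.LeftInverse.injective (g := r.baseChange B) fun z => ?_
  rw [← LinearMap.comp_apply, ← LinearMap.baseChange_comp, hr, LinearMap.baseChange_id, LinearMap.id_apply]

end Module

section Cartan

variable (H : LieSubalgebra A L) [Module.Projective A (L ⧸ H.toSubmodule)]

/-- The fibre of a subalgebra mapped into the fibre. -/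
def fibreIncl (p : PrimeSpectrum A) :
    p.asIdeal.ResidueField ⊗[A] H →ₗ⁅p.asIdeal.ResidueField⁆ p.asIdeal.ResidueField ⊗[A] L :=
  lieBaseChange A p.asIdeal.ResidueField H.incl

theorem fibreIncl_injective (p : PrimeSpectrum A) : Function.Injective (fibreIncl H p) :=
  baseChange_subtype_injective H.toSubmodule _

omit [Module.Projective A (L ⧸ H.toSubmodule)] in
theorem range_fibreIncl (p : PrimeSpectrum A) :
    ((fibreIncl H p).range : Set (p.asIdeal.ResidueField ⊗[A] L)) = SGA3t2b.fibreSubmodule p H := by
  rw [LieHom.coe_range]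
  rfl

omit [Module.Projective A (L ⧸ H.toSubmodule)] in
theorem toSubmodule_range_fibreIncl (p : PrimeSpectrum A) :
    (fibreIncl H p).range.toSubmodule = SGA3t2b.fibreSubmodule p H := SetLike.coe_injective (range_fibreIncl H p)

variable [Module.Finite A L]

/-- Fibrewise nilpotent subalgebras lie in the Engel subalgebras of their elements. -/
theorem le_engel_of_fibrewise_nilpotent
    (hnil : ∀ p : PrimeSpectrum A, LieRing.IsNilpotent (p.asIdeal.ResidueField ⊗[A] H)) {a : L} (ha : a ∈ H) :
    H ≤ LieSubalgebra.engel A a := by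
  haveI : Module.Finite A H := finite_of_projective_quotient H.toSubmodule
  obtain ⟨n, hn⟩ := isNilpotent_of_fibrewise (ad A H ⟨a, ha⟩) fun p => by
    haveI := hnil p
    rw [← ad_one_tmul]
    exact LieModule.isNilpotent_toEnd_of_isNilpotent _ _ _ _
  intro y hy
  rw [LieSubalgebra.mem_engel_iff]
  refine ⟨n, ?_⟩
  have h2 : (((ad A H ⟨a, ha⟩) ^ n) ⟨y, hy⟩ : L) = 0 := by rw [hn]; rfl
  rwa [LieSubalgebra.coe_ad_pow] at h2

/-- The fibre of a relative Cartan subalgebra at a regular element is an Engel subalgebra. -/
theorem fibre_eq_engel (hH : SGA3t2b.IsCartanRel H) {a : L} (haH : a ∈ H) (p : PrimeSpectrum A)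
    (ha : IsRegular p.asIdeal.ResidueField ((1 : p.asIdeal.ResidueField) ⊗ₜ[A] a)) :
    (LieSubalgebra.engel p.asIdeal.ResidueField ((1 : p.asIdeal.ResidueField) ⊗ₜ[A] a)).toSubmodule =
      SGA3t2b.fibreSubmodule p H := by
  haveI := (hH.2 p).1
  haveI : LieRing.IsNilpotent (fibreIncl H p).range := (fibreIncl H p).surjective_rangeRestrict.lieAlgebra_isNilpotent
  rw [← toSubmodule_range_fibreIncl, engel_eq_of_isRegular _ (fibreIncl H p).range ?_ ?_ ha]
  · change finrank _ (fibreIncl H p).range.toSubmodule = _
    rw [(LinearEquiv.ofEq _ _ (toSubmodule_range_fibreIncl H p)).finrank_eq]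
    exact (hH.2 p).2.2
  · exact ⟨(1 : p.asIdeal.ResidueField) ⊗ₜ[A] (⟨a, haH⟩ : H), rfl⟩

/-- The endomorphism induced by `ad a` on the quotient by a subalgebra containing `a`. -/
def adQuot (H : LieSubalgebra A L) {a : L} (ha : a ∈ H) : Module.End A (L ⧸ H.toSubmodule) :=
  Submodule.mapQ H.toSubmodule H.toSubmodule (ad A L a) fun _ hy => H.lie_mem ha hy

omit [Module.Projective A (L ⧸ H.toSubmodule)] [Module.Finite A L] in
theorem adQuot_mk {a : L} (ha : a ∈ H) (y : L) :
    adQuot H ha (Submodule.Quotient.mk y) = Submodule.Quotient.mk ⁅a, y⁆ := rfl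

omit [Module.Projective A (L ⧸ H.toSubmodule)] [Module.Finite A L] in
theorem adQuot_baseChange_mkQ {a : L} (ha : a ∈ H) (p : PrimeSpectrum A) (z : p.asIdeal.ResidueField ⊗[A] L) :
    (adQuot H ha).baseChange p.asIdeal.ResidueField (H.toSubmodule.mkQ.baseChange p.asIdeal.ResidueField z) =
      H.toSubmodule.mkQ.baseChange p.asIdeal.ResidueField
        (ad p.asIdeal.ResidueField _ ((1 : p.asIdeal.ResidueField) ⊗ₜ[A] a) z) := by
  rw [ad_one_tmul, ← LinearMap.comp_apply, ← LinearMap.baseChange_comp, ← LinearMap.comp_apply,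
    ← LinearMap.baseChange_comp]
  rfl

omit [Module.Projective A (L ⧸ H.toSubmodule)] in
/-- Where the fibre of `H` is the Engel subalgebra, `ad a` is surjective on the fibre of the quotient. -/
theorem adQuot_baseChange_surjective {a : L} (ha : a ∈ H) (p : PrimeSpectrum A)
    (h : (LieSubalgebra.engel p.asIdeal.ResidueField ((1 : p.asIdeal.ResidueField) ⊗ₜ[A] a)).toSubmodule =
      SGA3t2b.fibreSubmodule p H) :
    Function.Surjective ((adQuot H ha).baseChange p.asIdeal.ResidueField) := by
  refine LinearMap.surjective_of_injective ?_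
  rw [← LinearMap.ker_eq_bot, eq_bot_iff]
  intro w hw
  obtain ⟨z, rfl⟩ := H.toSubmodule.mkQ.lTensor_surjective p.asIdeal.ResidueField H.toSubmodule.mkQ_surjective w
  change H.toSubmodule.mkQ.baseChange p.asIdeal.ResidueField z = 0
  rw [← mem_baseChange_iff_mkQ]
  change z ∈ SGA3t2b.fibreSubmodule p H
  have h1 : ad p.asIdeal.ResidueField _ ((1 : p.asIdeal.ResidueField) ⊗ₜ[A] a) z ∈ SGA3t2b.fibreSubmodule p H := by
    refine (mem_baseChange_iff_mkQ H.toSubmodule _ _).2 ?_
    rw [← adQuot_baseChange_mkQ H ha p z]
    exact hw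
  rw [← h] at h1 ⊢
  change _ ∈ LieSubalgebra.engel _ _ at h1
  change z ∈ LieSubalgebra.engel _ _
  rw [LieSubalgebra.mem_engel_iff] at h1 ⊢
  obtain ⟨n, hn⟩ := h1
  exact ⟨n + 1, by rwa [pow_succ, Module.End.mul_apply]⟩

theorem adQuot_bijective (hH : SGA3t2b.IsCartanRel H) {a : L} (haH : a ∈ H) (ha : SGA3t2b.IsQuasiRegular A L a) :
    Function.Bijective (adQuot H haH) := by
  have hs : Function.Surjective (adQuot H haH) := surjective_of_fibrewise _ fun p =>
    adQuot_baseChange_surjective H haH p (fibre_eq_engel H hH haH p (ha p))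
  exact ⟨OrzechProperty.injective_of_surjective_endomorphism _ hs, hs⟩

omit [Module.Projective A (L ⧸ H.toSubmodule)] [Module.Finite A L] in
theorem adQuot_pow_mk {a : L} (ha : a ∈ H) (n : ℕ) (y : L) :
    (adQuot H ha ^ n) (Submodule.Quotient.mk y) = Submodule.Quotient.mk ((ad A L a ^ n) y) := by
  induction n generalizing y with
  | zero => rfl
  | succ n ih => rw [pow_succ, Module.End.mul_apply, adQuot_mk, ih, pow_succ, Module.End.mul_apply]; rfl

theorem eq_engel (hH : SGA3t2b.IsCartanRel H) {a : L} (haH : a ∈ H) (ha : SGA3t2b.IsQuasiRegular A L a) :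
    H = LieSubalgebra.engel A a := by
  refine le_antisymm (le_engel_of_fibrewise_nilpotent H (fun p => (hH.2 p).1) haH) fun y hy => ?_
  obtain ⟨n, hn⟩ := (LieSubalgebra.mem_engel_iff A a y).1 hy
  have hinj : Function.Injective (adQuot H haH ^ n) := by
    rw [Module.End.coe_pow]; exact (adQuot_bijective H hH haH ha).1.iterate n
  refine (Submodule.Quotient.mk_eq_zero H.toSubmodule).1 (hinj ?_)
  rw [map_zero, adQuot_pow_mk, hn, Submodule.Quotient.mk_zero]

end Cartan

/-- The Engel subalgebra of a quasi-regular element with a good complement is a relative Cartan subalgebra. -/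
theorem isCartanRel_engel [Module.Finite A L] {a : L} (ha : SGA3t2b.IsQuasiRegular A L a)
    (hproj : Module.Projective A (L ⧸ (LieSubalgebra.engel A a).toSubmodule))
    (hsurj : ∀ y : L, ∃ z : L, ⁅a, z⁆ - y ∈ LieSubalgebra.engel A a) :
    SGA3t2b.IsCartanRel (LieSubalgebra.engel A a) := by
  set E := LieSubalgebra.engel A a
  have haE : a ∈ E := LieSubalgebra.self_mem_engel A a
  have hs : Function.Surjective (adQuot E haE) := fun q => by
    obtain ⟨y, rfl⟩ := E.toSubmodule.mkQ_surjective q
    obtain ⟨z, hz⟩ := hsurj y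
    exact ⟨Submodule.Quotient.mk z, (Submodule.Quotient.eq _).2 hz⟩
  let e := LinearEquiv.ofBijective _ ⟨OrzechProperty.injective_of_surjective_endomorphism _ hs, hs⟩
  refine ⟨hproj, fun p => ?_⟩
  set x := (1 : p.asIdeal.ResidueField) ⊗ₜ[A] a
  set Ep := LieSubalgebra.engel p.asIdeal.ResidueField x
  have heq : SGA3t2b.fibreSubmodule p E = Ep.toSubmodule := by
    refine le_antisymm ?_ fun z hz => ?_
    · rw [SGA3t2b.fibreSubmodule, Submodule.baseChange_eq_span, Submodule.span_le]
      rintro _ ⟨y, hy, rfl⟩
      exact one_tmul_mem_engel hy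
    · obtain ⟨n, hn⟩ := (LieSubalgebra.mem_engel_iff _ x z).1 hz
      refine (mem_baseChange_iff_mkQ E.toSubmodule _ z).2 ?_
      have hbij : Function.Injective ((adQuot E haE).baseChange p.asIdeal.ResidueField) :=
        (e.baseChange A p.asIdeal.ResidueField).injective
      have hbn : Function.Injective ((adQuot E haE).baseChange p.asIdeal.ResidueField ^ n) := by
        rw [Module.End.coe_pow]; exact hbij.iterate n
      apply hbn
      rw [map_zero]
      have : ∀ (k : ℕ) (w : p.asIdeal.ResidueField ⊗[A] L),
          ((adQuot E haE).baseChange p.asIdeal.ResidueField ^ k) (E.toSubmodule.mkQ.baseChange p.asIdeal.ResidueField w) =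
            E.toSubmodule.mkQ.baseChange p.asIdeal.ResidueField ((ad p.asIdeal.ResidueField _ x ^ k) w) := by
        intro k
        induction k with
        | zero => intro w; rfl
        | succ k ih =>
          intro w
          rw [pow_succ, Module.End.mul_apply, adQuot_baseChange_mkQ, ih, pow_succ, Module.End.mul_apply]
      rw [this, hn, map_zero]
  haveI : LieRing.IsNilpotent Ep := isNilpotent_engel_of_isRegular _ (ha p)
  refine ⟨?_, ?_, ?_⟩
  · let j : p.asIdeal.ResidueField ⊗[A] E →ₗ⁅p.asIdeal.ResidueField⁆ Ep :=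
      { toFun := fun w => ⟨fibreIncl E p w, by
          have hw : fibreIncl E p w ∈ SGA3t2b.fibreSubmodule p E := by
            rw [← toSubmodule_range_fibreIncl]; exact ⟨w, rfl⟩
          rw [heq] at hw
          exact hw⟩
        map_add' := fun _ _ => Subtype.ext (map_add (fibreIncl E p).toLinearMap _ _)
        map_smul' := fun _ _ => Subtype.ext (map_smul (fibreIncl E p).toLinearMap _ _)
        map_lie' := fun {w₁ w₂} => Subtype.ext (LieHom.map_lie (fibreIncl E p) w₁ w₂) }
    have hj : Function.Injective j := fun w₁ w₂ h => fibreIncl_injective E p (congrArg Subtype.val h)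
    exact hj.lieAlgebra_isNilpotent
  · intro z hz
    rw [heq] at hz ⊢
    have h1 := hz x (LieSubalgebra.self_mem_engel _ x)
    change z ∈ Ep
    rw [← lie_skew, neg_mem_iff] at h1
    change ⁅x, z⁆ ∈ Ep at h1
    rw [LieSubalgebra.mem_engel_iff] at h1 ⊢
    obtain ⟨n, hn⟩ := h1
    exact ⟨n + 1, by rw [pow_succ, Module.End.mul_apply]; exact hn⟩
  · rw [heq]
    exact (isRegular_iff_finrank_engel_eq_rank _ x).1 (ha p)

end CartanRelLib
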