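import Mathlib
import Groth.Agent.CartanRelLib.Fibre

/-!
# Openness of regularity
-/

set_option autoImplicit false
set_option linter.style.haveILetI false
set_option maxHeartbeats 1000000

noncomputable section

universe u

open TensorProduct LieAlgebra Module

namespace CartanRelLib

attribute [local instance 100] LieRing.ofAssociativeRing

section Module

variable {A : Type u} [CommRing A] {M : Type u} [AddCommGroup M] [Module A M]

/-- Nakayama: a finite module with zero fibre at `p` is killed by some `f ∉ p`. -/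
theorem exists_smul_eq_zero_of_fibre [Module.Finite A M] (p : Ideal A) [p.IsPrime]
    (h : ∀ z : M, (1 : p.ResidueField) ⊗ₜ[A] z = 0) : ∃ f : A, f ∉ p ∧ ∀ z : M, f • z = 0 := by
  classical
  obtain ⟨s, hs⟩ := Module.Finite.fg_top (R := A) (M := M)
  choose r hr hrm using fun v : s => (GenFibNearLib.one_tmul_eq_zero_iff (p := p) (v : M)).1 (h v)
  let R₀ := ∏ v : s, r v
  have hR₀ : R₀ ∉ p := fun hh => by
    obtain ⟨v, -, hv⟩ := (Ideal.IsPrime.prod_mem_iff (hp := inferInstance)).1 hh
    exact hr v hv
  let φ : Module.End A M := algebraMap A (Module.End A M) R₀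
  have hφ : LinearMap.range φ ≤ p • ⊤ := by
    rw [LinearMap.range_eq_map]
    conv_lhs => rw [← hs]
    rw [Submodule.map_span, Submodule.span_le]
    rintro _ ⟨v, hv, rfl⟩
    obtain ⟨c, hc⟩ : r ⟨v, hv⟩ ∣ R₀ := Finset.dvd_prod_of_mem r (Finset.mem_univ _)
    change φ v ∈ p • (⊤ : Submodule A M)
    rw [show φ v = R₀ • v from rfl, hc, mul_comm, mul_smul]
    exact Submodule.smul_mem _ _ (hrm ⟨v, hv⟩)
  obtain ⟨P, hmon, -, hcoef, hP⟩ := LinearMap.exists_monic_and_natDegree_eq_and_coeff_mem_pow_and_aeval_eq_zero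
    A φ p hφ
  refine ⟨P.eval R₀, fun hh => hR₀ ?_, fun z => ?_⟩
  · refine Ideal.IsPrime.mem_of_pow_mem inferInstance P.natDegree ?_
    rw [Polynomial.eval_eq_sum_range, Finset.sum_range_succ, hmon.coeff_natDegree, one_mul] at hh
    refine (p.add_mem_iff_right ?_).1 hh
    refine Ideal.sum_mem _ fun k hk => Ideal.mul_mem_right _ _ (Ideal.pow_le_self ?_ (hcoef k))
    rw [Finset.mem_range] at hk; omega
  · rw [Polynomial.aeval_algebraMap_apply_eq_algebraMap_eval] at hP
    exact LinearMap.congr_fun hP z

theorem tmul_eq_zero_of_smul_eq_zero (q : Ideal A) [q.IsPrime] {f : A} (hf : f ∉ q)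
    (h : ∀ z : M, f • z = 0) (x : q.ResidueField ⊗[A] M) : x = 0 := by
  have h1 : f • x = 0 := by
    induction x using TensorProduct.induction_on with
    | zero => rw [smul_zero]
    | tmul c z => rw [← tmul_smul, h, tmul_zero]
    | add a b ha hb => rw [smul_add, ha, hb, add_zero]
  rw [smul_tmul_eq] at h1
  exact (isUnit_algebraMap_residueField q hf).smul_eq_zero.1 h1

/-- Where `f` kills the cokernel of an endomorphism, it is surjective on the fibre. -/
theorem baseChange_surjective_of_smul (q : Ideal A) [q.IsPrime] {f : A} (hf : f ∉ q) (T : Module.End A M)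
    (h : ∀ z : M ⧸ LinearMap.range T, f • z = 0) : Function.Surjective (T.baseChange q.ResidueField) := by
  intro x
  exact (lTensor_exact q.ResidueField (LinearMap.exact_map_mkQ_range T) (LinearMap.range T).mkQ_surjective x).1
    (tmul_eq_zero_of_smul_eq_zero q hf h _)

/-- A surjection away from `f` is injective away from `f`. -/
theorem exists_pow_smul_eq_zero [Module.Finite A M] (T : Module.End A M) {f : A}
    (h : ∀ z : M ⧸ LinearMap.range T, f • z = 0) {y : M} {n : ℕ} (hy : (T ^ n) y = 0) :
    ∃ m : ℕ, f ^ m • y = 0 := by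
  let S := Submonoid.powers f
  let ι := LocalizedModule.mkLinearMap S M
  let T' : Module.End (Localization S) (LocalizedModule S M) :=
    LinearMap.extendScalarsOfIsLocalization S (Localization S) (IsLocalizedModule.map S ι ι T)
  have hT : ∀ m, T' (ι m) = ι (T m) := fun m => IsLocalizedModule.map_apply S ι ι T m
  have hs : Function.Surjective T' := by
    intro z
    obtain ⟨⟨m, s⟩, hz⟩ := IsLocalizedModule.surj S ι z
    obtain ⟨w, hw⟩ : ∃ w, T w = f • m := by
      have := h ((LinearMap.range T).mkQ m)
      rw [← map_smul, Submodule.mkQ_apply, Submodule.Quotient.mk_eq_zero] at this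
      exact this
    have hu : IsUnit (algebraMap A (Localization S) (f * s)) :=
      IsLocalization.map_units (Localization S) (⟨f, Submonoid.mem_powers f⟩ * s : S)
    refine ⟨((hu.unit⁻¹ : (Localization S)ˣ) : Localization S) • ι w, ?_⟩
    rw [map_smul, hT, hw, map_smul, ← hz, Submonoid.smul_def, smul_smul,
      ← algebraMap_smul (Localization S) (f * (s : A)), smul_smul, IsUnit.val_inv_mul, one_smul]
  have hinj : Function.Injective (T' ^ n) := by
    rw [Module.End.coe_pow]; exact (OrzechProperty.injective_of_surjective_endomorphism _ hs).iterate n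
  have hpow : ∀ (k : ℕ) (m : M), (T' ^ k) (ι m) = ι ((T ^ k) m) := by
    intro k
    induction k with
    | zero => intro m; rfl
    | succ k ih => intro m; rw [pow_succ, Module.End.mul_apply, hT, ih, pow_succ, Module.End.mul_apply]
  have h0 : ι y = 0 := hinj (by rw [hpow, hy, map_zero, map_zero])
  obtain ⟨⟨_, m, rfl⟩, hm⟩ := (IsLocalizedModule.eq_zero_iff S ι).1 h0
  exact ⟨m, hm⟩

end Module

variable {A : Type u} [CommRing A] {L : Type u} [LieRing L] [LieAlgebra A L] [Module.Finite A L]

theorem finrank_fibre_le (p : PrimeSpectrum A) :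
    finrank p.asIdeal.ResidueField (p.asIdeal.ResidueField ⊗[A] L) ≤ (⊤ : Submodule A L).spanFinrank := by
  haveI : Nontrivial A := PrimeSpectrum.nonempty_iff_nontrivial.1 ⟨p⟩
  obtain ⟨s, hcard, hs⟩ := Submodule.FG.exists_span_finset_card_eq_spanFinrank
    (Module.Finite.fg_top (R := A) (M := L))
  rw [← hcard, ← Fintype.card_coe]
  let ψ : (s → A) →ₗ[A] L := Fintype.linearCombination A (fun v : s => (v : L))
  have hψ : Function.Surjective ψ := by
    rw [← LinearMap.range_eq_top, Fintype.range_linearCombination, ← hs]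
    congr 1
    simp
  calc finrank p.asIdeal.ResidueField (p.asIdeal.ResidueField ⊗[A] L)
      ≤ finrank p.asIdeal.ResidueField (p.asIdeal.ResidueField ⊗[A] (s → A)) :=
        LinearMap.finrank_le_finrank_of_surjective (f := ψ.baseChange p.asIdeal.ResidueField)
          (ψ.lTensor_surjective _ hψ)
    _ = Fintype.card s := by rw [finrank_baseChange, finrank_fintype_fun_eq_card]

omit [Module.Finite A L] in
theorem engel_eq_ker {p : PrimeSpectrum A} [Module.Finite p.asIdeal.ResidueField (p.asIdeal.ResidueField ⊗[A] L)]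
    (a : L) {n : ℕ} (hn : finrank p.asIdeal.ResidueField (p.asIdeal.ResidueField ⊗[A] L) ≤ n) :
    (LieSubalgebra.engel p.asIdeal.ResidueField ((1 : p.asIdeal.ResidueField) ⊗ₜ[A] a)).toSubmodule =
      LinearMap.ker (((ad A L a) ^ n).baseChange p.asIdeal.ResidueField) := by
  set D := ad p.asIdeal.ResidueField _ ((1 : p.asIdeal.ResidueField) ⊗ₜ[A] a)
  have h0 : D.genEigenspace 0 (n : ℕ∞) = D.maxGenEigenspace 0 := by
    refine le_antisymm ((D.genEigenspace 0).monotone le_top) ?_
    rw [Module.End.maxGenEigenspace_eq_genEigenspace_finrank]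
    exact (D.genEigenspace 0).monotone (by exact_mod_cast hn)
  change D.maxGenEigenspace 0 = _
  rw [← h0, Module.End.genEigenspace_nat, zero_smul, sub_zero, LinearMap.baseChange_pow, ← ad_one_tmul]

/-- The dimension of the Engel subalgebra of the image of a section can only drop near a point. -/
theorem exists_finrank_engel_le_near (a : L) (p : PrimeSpectrum A) :
    ∃ f : A, f ∉ p.asIdeal ∧ ∀ q : PrimeSpectrum A, f ∉ q.asIdeal →
      finrank q.asIdeal.ResidueField (LieSubalgebra.engel q.asIdeal.ResidueField ((1 : q.asIdeal.ResidueField) ⊗ₜ[A] a)) ≤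
      finrank p.asIdeal.ResidueField (LieSubalgebra.engel p.asIdeal.ResidueField ((1 : p.asIdeal.ResidueField) ⊗ₜ[A] a)) := by
  classical
  set n := (⊤ : Submodule A L).spanFinrank
  set T : Module.End A L := (ad A L a) ^ n
  let C := L ⧸ LinearMap.range T
  have key : ∀ q : PrimeSpectrum A,
      finrank q.asIdeal.ResidueField (LieSubalgebra.engel q.asIdeal.ResidueField ((1 : q.asIdeal.ResidueField) ⊗ₜ[A] a)) =
      finrank q.asIdeal.ResidueField (q.asIdeal.ResidueField ⊗[A] C) := by
    intro q
    change finrank _ (LieSubalgebra.engel q.asIdeal.ResidueField ((1 : q.asIdeal.ResidueField) ⊗ₜ[A] a)).toSubmodule = _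
    rw [(LinearEquiv.ofEq _ _ (engel_eq_ker a (finrank_fibre_le q))).finrank_eq]
    have h1 := LinearMap.finrank_range_add_finrank_ker (T.baseChange q.asIdeal.ResidueField)
    have h2 := LinearMap.finrank_range_add_finrank_ker ((LinearMap.range T).mkQ.baseChange q.asIdeal.ResidueField)
    have h3 : LinearMap.ker ((LinearMap.range T).mkQ.baseChange q.asIdeal.ResidueField) =
        LinearMap.range (T.baseChange q.asIdeal.ResidueField) := by
      ext x
      exact lTensor_exact q.asIdeal.ResidueField (LinearMap.exact_map_mkQ_range T) (LinearMap.range T).mkQ_surjective x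
    have h4 : LinearMap.range ((LinearMap.range T).mkQ.baseChange q.asIdeal.ResidueField) = ⊤ :=
      LinearMap.range_eq_top.2 ((LinearMap.range T).mkQ.lTensor_surjective _ (LinearMap.range T).mkQ_surjective)
    rw [(LinearEquiv.ofEq _ _ h3).finrank_eq, (LinearEquiv.ofEq _ _ h4).finrank_eq, finrank_top] at h2
    simp only [C, T, n] at h1 h2 ⊢
    omega
  let r := finrank p.asIdeal.ResidueField (p.asIdeal.ResidueField ⊗[A] C)
  let b := Module.finBasis p.asIdeal.ResidueField (p.asIdeal.ResidueField ⊗[A] C)
  choose s hs c hc using fun i => exists_smul_eq_tmul p.asIdeal (b i)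
  let ψ : (Fin r → A) →ₗ[A] C := Fintype.linearCombination A c
  obtain ⟨f, hf, hK⟩ := exists_smul_eq_zero_of_fibre (M := C ⧸ LinearMap.range ψ) p.asIdeal fun z => by
    obtain ⟨w, rfl⟩ := (LinearMap.range ψ).mkQ_surjective z
    have h0 : ∀ x : p.asIdeal.ResidueField ⊗[A] C, (LinearMap.range ψ).mkQ.baseChange p.asIdeal.ResidueField x = 0 := by
      intro x
      rw [← b.sum_repr x, map_sum]
      refine Finset.sum_eq_zero fun i _ => ?_
      rw [map_smul]
      have h1 : (LinearMap.range ψ).mkQ.baseChange p.asIdeal.ResidueField (b i) = 0 := by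
        have h2 := congrArg ((LinearMap.range ψ).mkQ.baseChange p.asIdeal.ResidueField) (hc i)
        rw [smul_tmul_eq, map_smul, LinearMap.baseChange_tmul, Submodule.mkQ_apply,
          (Submodule.Quotient.mk_eq_zero _).2 (show c i ∈ LinearMap.range ψ from
            ⟨Pi.single i 1, by rw [Fintype.linearCombination_apply_single]; exact one_smul A (c i)⟩),
          tmul_zero] at h2
        exact (isUnit_algebraMap_residueField p.asIdeal (hs i)).smul_eq_zero.1 h2
      rw [h1, smul_zero]
    exact h0 ((1 : p.asIdeal.ResidueField) ⊗ₜ[A] w)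
  refine ⟨f, hf, fun q hq => ?_⟩
  rw [key, key]
  calc finrank q.asIdeal.ResidueField (q.asIdeal.ResidueField ⊗[A] C)
      ≤ finrank q.asIdeal.ResidueField (q.asIdeal.ResidueField ⊗[A] (Fin r → A)) :=
        LinearMap.finrank_le_finrank_of_surjective (f := ψ.baseChange q.asIdeal.ResidueField) fun x =>
          (lTensor_exact q.asIdeal.ResidueField (LinearMap.exact_map_mkQ_range ψ) (LinearMap.range ψ).mkQ_surjective x).1
            (tmul_eq_zero_of_smul_eq_zero q.asIdeal hq hK _)
    _ = r := by
      haveI : Nontrivial A := PrimeSpectrum.nonempty_iff_nontrivial.1 ⟨p⟩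
      rw [finrank_baseChange, finrank_fintype_fun_eq_card, Fintype.card_fin]

/-- Regularity spreads out when the rank is locally constant. -/
theorem exists_isRegular_near (a : L) (p : PrimeSpectrum A) {g : A} (hg : g ∉ p.asIdeal)
    (hrank : ∀ q : PrimeSpectrum A, g ∉ q.asIdeal →
      rank q.asIdeal.ResidueField (q.asIdeal.ResidueField ⊗[A] L) = rank p.asIdeal.ResidueField (p.asIdeal.ResidueField ⊗[A] L))
    (ha : IsRegular p.asIdeal.ResidueField ((1 : p.asIdeal.ResidueField) ⊗ₜ[A] a)) :
    ∃ f : A, f ∉ p.asIdeal ∧ ∀ q : PrimeSpectrum A, f ∉ q.asIdeal →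
      IsRegular q.asIdeal.ResidueField ((1 : q.asIdeal.ResidueField) ⊗ₜ[A] a) := by
  obtain ⟨f, hf, h⟩ := exists_finrank_engel_le_near a p
  refine ⟨g * f, fun hh => (Ideal.IsPrime.mem_or_mem inferInstance hh).elim hg hf, fun q hq => ?_⟩
  rw [isRegular_iff_finrank_engel_eq_rank]
  refine le_antisymm ?_ (rank_le_finrank_engel _ _)
  refine (h q fun hh => hq (q.asIdeal.mul_mem_left g hh)).trans_eq ?_
  rw [(isRegular_iff_finrank_engel_eq_rank _ _).1 ha, hrank q fun hh => hq (q.asIdeal.mul_mem_right f hh)]

omit [Module.Finite A L] in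
theorem isRegular_smul {K : Type u} [Field K] {M : Type u} [LieRing M] [LieAlgebra K M] [Module.Finite K M]
    {c : K} (hc : c ≠ 0) {x : M} (hx : IsRegular K x) : IsRegular K (c • x) := by
  rw [isRegular_iff_finrank_engel_eq_rank] at hx ⊢
  refine le_antisymm ?_ (rank_le_finrank_engel _ _)
  rw [← hx]
  refine Submodule.finrank_mono (fun y hy => ?_)
  change y ∈ LieSubalgebra.engel K x
  change y ∈ LieSubalgebra.engel K (c • x) at hy
  rw [LieSubalgebra.mem_engel_iff] at hy ⊢
  obtain ⟨n, hn⟩ := hy
  refine ⟨n, ?_⟩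
  rw [map_smul, smul_pow, LinearMap.smul_apply] at hn
  exact (smul_eq_zero.1 hn).resolve_left (pow_ne_zero n hc)

/-- A regular element of a fibre can be lifted. -/
theorem exists_isRegular_tmul (p : PrimeSpectrum A) {x : p.asIdeal.ResidueField ⊗[A] L}
    (hx : IsRegular p.asIdeal.ResidueField x) :
    ∃ a : L, IsRegular p.asIdeal.ResidueField ((1 : p.asIdeal.ResidueField) ⊗ₜ[A] a) := by
  obtain ⟨s, hs, a, ha⟩ := exists_smul_eq_tmul p.asIdeal x
  refine ⟨a, ?_⟩
  rw [← ha, smul_tmul_eq]
  exact isRegular_smul (isUnit_algebraMap_residueField p.asIdeal hs).ne_zero hx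

theorem fibre_isCartan (H : LieSubalgebra A L) (hH : SGA3t2b.IsCartanRel H) (p : PrimeSpectrum A) :
    (fibreIncl H p).range.IsCartanSubalgebra ∧
      finrank p.asIdeal.ResidueField (fibreIncl H p).range =
        rank p.asIdeal.ResidueField (p.asIdeal.ResidueField ⊗[A] L) := by
  haveI := (hH.2 p).1
  refine ⟨⟨(fibreIncl H p).surjective_rangeRestrict.lieAlgebra_isNilpotent, ?_⟩, ?_⟩
  · refine le_antisymm (fun z hz => ?_) (LieSubalgebra.le_normalizer _)
    rw [← SetLike.mem_coe, range_fibreIncl]
    refine (hH.2 p).2.1 z fun y hy => ?_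
    have hy' : y ∈ (fibreIncl H p).range := by
      rw [← SetLike.mem_coe, range_fibreIncl]; exact hy
    rw [← SetLike.mem_coe, ← range_fibreIncl]
    exact (LieSubalgebra.mem_normalizer_iff _ _).1 hz y hy'
  · change finrank _ (fibreIncl H p).range.toSubmodule = _
    rw [(LinearEquiv.ofEq _ _ (toSubmodule_range_fibreIncl H p)).finrank_eq]
    exact (hH.2 p).2.2

/-- The rank is locally constant in the presence of a relative Cartan subalgebra. -/
theorem isLocallyConstant_rank [Module.Projective A L] (H : LieSubalgebra A L) (hH : SGA3t2b.IsCartanRel H) :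
    IsLocallyConstant fun p : PrimeSpectrum A =>
      rank p.asIdeal.ResidueField (p.asIdeal.ResidueField ⊗[A] L) := by
  haveI := hH.1
  haveI : Module.Finite A H := finite_of_projective_quotient H.toSubmodule
  haveI : Module.Projective A H := projective_of_projective_quotient H.toSubmodule
  haveI : Module.FinitePresentation A H := Module.finitePresentation_of_projective A H
  have h : (fun p : PrimeSpectrum A => rank p.asIdeal.ResidueField (p.asIdeal.ResidueField ⊗[A] L)) =
      Module.rankAtStalk H := by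
    funext p
    rw [Module.rankAtStalk_eq, ← (hH.2 p).2.2]
    exact (LinearEquiv.ofInjective _ (baseChange_subtype_injective H.toSubmodule p.asIdeal.ResidueField)).finrank_eq.symm
  rw [h]
  exact Module.isLocallyConstant_rankAtStalk

theorem exists_rank_const_of_isLocallyConstant
    (h : IsLocallyConstant fun p : PrimeSpectrum A => rank p.asIdeal.ResidueField (p.asIdeal.ResidueField ⊗[A] L))
    (p : PrimeSpectrum A) : ∃ f : A, f ∉ p.asIdeal ∧ ∀ q : PrimeSpectrum A, f ∉ q.asIdeal →
      rank q.asIdeal.ResidueField (q.asIdeal.ResidueField ⊗[A] L) =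
        rank p.asIdeal.ResidueField (p.asIdeal.ResidueField ⊗[A] L) := by
  obtain ⟨U, hU, hpU, hconst⟩ := h.exists_open p
  obtain ⟨_, ⟨f, rfl⟩, hpf, hfU⟩ :=
    PrimeSpectrum.isTopologicalBasis_basic_opens.exists_subset_of_mem_open hpU hU
  exact ⟨f, hpf, fun q hq => hconst q (hfU hq)⟩

end CartanRelLib
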