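import Mathlib
import Groth.Agent.CartanRelLib.Open

/-!
# Quasi-regular elements over a reduced base
-/

set_option autoImplicit false
set_option linter.style.haveILetI false
set_option maxHeartbeats 1000000

noncomputable section

universe u

open TensorProduct LieAlgebra Module Polynomial

namespace CartanRelLib

attribute [local instance 100] LieRing.ofAssociativeRing

/-- The polynomial identity making a high power of an endomorphism strongly regular. -/
theorem exists_pow_eq {B : Type u} [CommRing B] {M : Type u} [AddCommGroup M] [Module B M]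
    (D : Module.End B M) {χ : Polynomial B} (hχ : Polynomial.aeval D χ = 0) {r n : ℕ} (hrn : r ≤ n)
    (hlow : ∀ i < r, χ.coeff i = 0) (hu : IsUnit (χ.coeff r)) :
    ∃ S : Module.End B M, D ^ n = D ^ n * D ^ n * S ∧ Commute S D := by
  obtain ⟨g, hg⟩ : (X : Polynomial B) ^ r ∣ χ := Polynomial.X_pow_dvd_iff.2 hlow
  have hgu : IsUnit (g.coeff 0) := by
    have : χ.coeff r = g.coeff 0 := by rw [hg]; exact (congrArg _ (zero_add r).symm).trans (coeff_X_pow_mul g r 0)
    rwa [← this]
  have hcop : IsCoprime (X : Polynomial B) g := by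
    obtain ⟨v, hv⟩ := hgu.exists_left_inv
    refine ⟨-(C v * g.divX), C v, ?_⟩
    have h := Polynomial.X_mul_divX_add g
    calc -(C v * g.divX) * X + C v * g = C v * (g - X * g.divX) := by ring
      _ = C v * C (g.coeff 0) := by rw [show g - X * g.divX = C (g.coeff 0) from sub_eq_of_eq_add' h.symm]
      _ = 1 := by rw [← C_mul, hv, C_1]
  obtain ⟨a, b, hab⟩ := hcop.pow_left (m := n)
  have key : (X : Polynomial B) ^ n = X ^ n * X ^ n * a + b * X ^ (n - r) * χ := by
    calc (X : Polynomial B) ^ n = X ^ n * (a * X ^ n + b * g) := by rw [hab, mul_one]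
      _ = X ^ n * X ^ n * a + b * X ^ n * g := by ring
      _ = _ := by
          rw [hg]
          have : (X : Polynomial B) ^ n = X ^ (n - r) * X ^ r := by rw [← pow_add, Nat.sub_add_cancel hrn]
          rw [this]; ring
  refine ⟨Polynomial.aeval D a, ?_, ?_⟩
  · have h := congrArg (Polynomial.aeval D) key
    simpa only [map_add, map_mul, map_pow, aeval_X, hχ, mul_zero, add_zero] using h
  · have h := (Commute.all a X).map (Polynomial.aeval D)
    rwa [aeval_X] at h

/-- Vanishing is local at the maximal ideals. -/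
theorem eq_zero_of_tmul_localization {A : Type u} [CommRing A] {M : Type u} [AddCommGroup M] [Module A M] (z : M)
    (h : ∀ (m : Ideal A) [m.IsMaximal], (1 : Localization.AtPrime m) ⊗ₜ[A] z = 0) : z = 0 := by
  by_contra hz
  have hann : (Submodule.span A {z}).annihilator ≠ ⊤ := by
    rw [Ne, Ideal.eq_top_iff_one, Submodule.mem_annihilator_span_singleton, one_smul]
    exact hz
  obtain ⟨m, hm, hle⟩ := Ideal.exists_le_maximal _ hann
  obtain ⟨⟨s, hs⟩, hsz⟩ := (IsLocalizedModule.eq_zero_iff m.primeCompl
    (TensorProduct.mk A (Localization.AtPrime m) M 1)).1 (h m)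
  exact hs (hle ((Submodule.mem_annihilator_span_singleton _ _).2 hsz))

section Free

variable {R : Type u} [CommRing R] {M : Type u} [LieRing M] [LieAlgebra R M] [Module.Finite R M] [Module.Free R M]
variable (B : Type u) [CommRing B] [Algebra R B]

theorem tensorProduct_comp_baseChange_ad :
    LinearMap.tensorProduct R B M M ∘ₗ ((ad R M).toLinearMap.baseChange B) = (ad B (B ⊗[R] M)).toLinearMap := by
  refine TensorProduct.AlgebraTensorModule.ext fun c x => ?_
  have h : c ⊗ₜ[R] x = c • ((1 : B) ⊗ₜ[R] x) := by rw [TensorProduct.smul_tmul', smul_eq_mul, mul_one]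
  rw [h, map_smul, map_smul]
  congr 1
  simp only [LinearMap.coe_comp, Function.comp_apply, LinearMap.baseChange_tmul, LieHom.coe_toLinearMap]
  rw [ad_one_tmul]
  ext y
  simp [LinearMap.tensorProduct]

variable {ι : Type u} [Fintype ι] [DecidableEq ι] (b : Basis ι R M)

theorem polyCharpoly_ad_baseChange :
    LinearMap.polyCharpoly (ad B (B ⊗[R] M)).toLinearMap (Algebra.TensorProduct.basis B b) =
      (LinearMap.polyCharpoly (ad R M).toLinearMap b).map (MvPolynomial.map (algebraMap R B)) := by
  rw [← LinearMap.polyCharpoly_baseChange, tensorProduct_comp_baseChange_ad]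

theorem charpoly_coeff_eq_eval (y : B ⊗[R] M) (i : ℕ) :
    (ad B (B ⊗[R] M) y).charpoly.coeff i =
      MvPolynomial.eval ((Algebra.TensorProduct.basis B b).repr y)
        (MvPolynomial.map (algebraMap R B) ((LinearMap.polyCharpoly (ad R M).toLinearMap b).coeff i)) := by
  rw [← Polynomial.coeff_map (f := MvPolynomial.map (algebraMap R B)), ← polyCharpoly_ad_baseChange,
    LinearMap.polyCharpoly_coeff_eval]
  rfl

theorem map_coeff_polyCharpoly_eq_zero (K : Type u) [Field K] [Algebra R K] {i : ℕ}
    (hi : i < rank K (K ⊗[R] M)) :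
    MvPolynomial.map (algebraMap R K) ((LinearMap.polyCharpoly (ad R M).toLinearMap b).coeff i) = 0 := by
  rw [← Polynomial.coeff_map, ← polyCharpoly_ad_baseChange]
  rw [rank_eq_natTrailingDegree K (K ⊗[R] M) (Algebra.TensorProduct.basis K b)] at hi
  exact Polynomial.coeff_eq_zero_of_lt_natTrailingDegree hi

/-- Over a reduced ring the low coefficients of the generic characteristic polynomial vanish. -/
theorem charpoly_coeff_eq_zero [IsReduced R] {r i : ℕ} (hi : i < r) {g : R}
    (hr : ∀ q : PrimeSpectrum R, g ∉ q.asIdeal → r ≤ rank q.asIdeal.ResidueField (q.asIdeal.ResidueField ⊗[R] M))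
    (hg : IsUnit (algebraMap R B g)) (y : B ⊗[R] M) : (ad B (B ⊗[R] M) y).charpoly.coeff i = 0 := by
  classical
  rw [charpoly_coeff_eq_eval B (Module.Free.chooseBasis R M)]
  set P := (LinearMap.polyCharpoly (ad R M).toLinearMap (Module.Free.chooseBasis R M)).coeff i
  suffices h : MvPolynomial.map (algebraMap R B) P = 0 by rw [h, map_zero]
  ext d
  rw [MvPolynomial.coeff_map, MvPolynomial.coeff_zero]
  have hz : g * P.coeff d = 0 := by
    refine (nilpotent_iff_mem_prime.2 fun q hq => ?_).eq_zero
    by_cases hgq : g ∈ q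
    · exact q.mul_mem_right _ hgq
    · refine q.mul_mem_left _ (Ideal.algebraMap_residueField_eq_zero.1 ?_)
      have h0 := map_coeff_polyCharpoly_eq_zero (Module.Free.chooseBasis R M) q.ResidueField
        (hi.trans_le (hr ⟨q, hq⟩ hgq))
      rw [← MvPolynomial.coeff_map, h0, MvPolynomial.coeff_zero]
  have := congrArg (algebraMap R B) hz
  rw [map_mul, map_zero] at this
  exact hg.mul_right_eq_zero.1 this

end Free

variable {A : Type u} [CommRing A] {L : Type u} [LieRing L] [LieAlgebra A L] [Module.Finite A L]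
  [Module.Projective A L] [IsReduced A]

variable (hC0 : ∀ p : PrimeSpectrum A, ∃ f : A, f ∉ p.asIdeal ∧ ∀ q : PrimeSpectrum A, f ∉ q.asIdeal →
    rank q.asIdeal.ResidueField (q.asIdeal.ResidueField ⊗[A] L) =
      rank p.asIdeal.ResidueField (p.asIdeal.ResidueField ⊗[A] L))
variable (A' : Type u) [CommRing A'] [Algebra A A']
include hC0

/-- Locally, a high power of `ad a'` is strongly regular. -/
theorem exists_local_identity (a' : A' ⊗[A] L) (ha' : SGA3t2b.IsQuasiRegular A' (A' ⊗[A] L) a')
    {n : ℕ} (hn : (⊤ : Submodule A' (A' ⊗[A] L)).spanFinrank ≤ n) (m : Ideal A') [m.IsMaximal] :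
    ∃ S : Module.End (Localization.AtPrime m) (Localization.AtPrime m ⊗[A'] (A' ⊗[A] L)),
      (ad A' (A' ⊗[A] L) a' ^ n).baseChange (Localization.AtPrime m) =
        (ad A' (A' ⊗[A] L) a' ^ n).baseChange (Localization.AtPrime m) *
          (ad A' (A' ⊗[A] L) a' ^ n).baseChange (Localization.AtPrime m) * S ∧
      Commute S ((ad A' (A' ⊗[A] L) a').baseChange (Localization.AtPrime m)) := by
  classical
  let p' : PrimeSpectrum A' := ⟨m, inferInstance⟩
  let p := PrimeSpectrum.comap (algebraMap A A') p'
  obtain ⟨f₀, hf₀, hrank⟩ := hC0 p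
  haveI : Module.FinitePresentation A L := Module.finitePresentation_of_projective A L
  obtain ⟨f₁, hf₁, hfree⟩ : ∃ f : A, f ∉ p.asIdeal ∧
      Module.Free (Localization.Away f) (Localization.Away f ⊗[A] L) := by
    haveI : Module.Free (Localization.AtPrime p.asIdeal) (LocalizedModule p.asIdeal.primeCompl L) := by
      haveI : Module.Projective (Localization.AtPrime p.asIdeal) (LocalizedModule p.asIdeal.primeCompl L) :=
        Module.projective_of_isLocalizedModule p.asIdeal.primeCompl (LocalizedModule.mkLinearMap p.asIdeal.primeCompl L)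
      exact Module.free_of_flat_of_isLocalRing
    obtain ⟨f, hf, hfree, -⟩ := Module.FinitePresentation.exists_free_localizedModule_powers p.asIdeal.primeCompl
      (LocalizedModule.mkLinearMap p.asIdeal.primeCompl L) (Localization.AtPrime p.asIdeal)
    exact ⟨f, hf, Module.Free.of_equiv (LocalizedModule.equivTensorProduct (Submonoid.powers f) L)⟩
  let R := Localization.Away f₁
  haveI : IsReduced R := isReduced_localizationPreserves (Submonoid.powers f₁) R inferInstance
  let B := Localization.AtPrime m
  let k := IsLocalRing.ResidueField B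
  have hu : ∀ t : A, t ∉ p.asIdeal → IsUnit (algebraMap A B t) := fun t ht => by
    rw [IsScalarTower.algebraMap_apply A A' B]
    exact IsLocalization.map_units B (⟨algebraMap A A' t, ht⟩ : m.primeCompl)
  letI : Algebra R B := (IsLocalization.Away.lift f₁ (g := algebraMap A B) (hu f₁ hf₁)).toAlgebra
  haveI : IsScalarTower A R B := IsScalarTower.of_algebraMap_eq fun x =>
    (IsLocalization.Away.lift_eq (S := R) f₁ (hu f₁ hf₁) x).symm
  let e₁ := cancelLie A L A' B
  let e₂ := cancelLie A L R B
  let y := e₂.symm (e₁ ((1 : B) ⊗ₜ[A'] a'))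
  let φ : (B ⊗[A'] (A' ⊗[A] L)) ≃ₗ⁅B⁆ B ⊗[R] (R ⊗[A] L) := e₁.trans e₂.symm
  let D := ad B (B ⊗[A'] (A' ⊗[A] L)) ((1 : B) ⊗ₜ[A'] a')
  haveI : Module.Free B (B ⊗[A'] (A' ⊗[A] L)) := Module.Free.of_equiv φ.symm.toLinearEquiv
  set r := rank p.asIdeal.ResidueField (p.asIdeal.ResidueField ⊗[A] L)
  have hlow : ∀ i < r, D.charpoly.coeff i = 0 := by
    intro i hi
    have hc : D.charpoly = (ad B _ y).charpoly := by
      rw [show y = φ ((1 : B) ⊗ₜ[A'] a') from rfl, ad_lieEquiv]
      exact (LinearEquiv.charpoly_conj _ _).symm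
    rw [hc]
    refine charpoly_coeff_eq_zero B hi (g := algebraMap A R f₀) (fun q hq => ?_) ?_ y
    · rw [rank_residue (A := A) (L := L) q, hrank _ (fun h => hq h)]
    · rw [← IsScalarTower.algebraMap_apply]; exact hu f₀ hf₀
  have hr : rank m.ResidueField (m.ResidueField ⊗[A'] (A' ⊗[A] L)) = r := by
    have hp : f₀ ∉ (PrimeSpectrum.comap (algebraMap A A') p').asIdeal := hf₀
    rw [rank_residue (A := A) (L := L) p']
  have hrn : r ≤ n := by
    rw [← hr]
    exact ((rank_le_finrank m.ResidueField _).trans (finrank_fibre_le p')).trans hn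
  have hunit : IsUnit (D.charpoly.coeff r) := by
    by_contra h
    refine ha' p' ?_
    change (ad m.ResidueField _ ((1 : m.ResidueField) ⊗ₜ[A'] a')).charpoly.coeff
      (rank m.ResidueField (m.ResidueField ⊗[A'] (A' ⊗[A] L))) = 0
    rw [hr]
    have h1 : (ad m.ResidueField _ ((1 : m.ResidueField) ⊗ₜ[A'] a')).charpoly =
        D.charpoly.map (algebraMap B m.ResidueField) := by
      let e₃ := cancelLie A' (A' ⊗[A] L) B m.ResidueField
      rw [← LinearMap.charpoly_baseChange, ← ad_one_tmul (B := m.ResidueField) (A := B) ((1 : B) ⊗ₜ[A'] a'),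
        ← LinearEquiv.charpoly_conj e₃.toLinearEquiv, ← ad_lieEquiv e₃, cancelLie_tmul, one_smul]
    rw [h1, Polynomial.coeff_map]
    exact (IsLocalRing.residue_eq_zero_iff _).2 h
  obtain ⟨S, hS, hcomm⟩ := exists_pow_eq D (LinearMap.aeval_self_charpoly D) hrn hlow hunit
  have hD : D = (ad A' (A' ⊗[A] L) a').baseChange B := ad_one_tmul (A := A') (B := B) a'
  rw [LinearMap.baseChange_pow, ← hD]
  exact ⟨S, hS, hcomm⟩

theorem isRegularRel_of_reduced (a' : A' ⊗[A] L) (ha' : SGA3t2b.IsQuasiRegular A' (A' ⊗[A] L) a') :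
    SGA3t2b.IsRegularRel A' (A' ⊗[A] L) a' := by
  refine ⟨ha', LieSubalgebra.engel A' a', ?_, LieSubalgebra.self_mem_engel A' a'⟩
  set D := ad A' (A' ⊗[A] L) a'
  set n := (⊤ : Submodule A' (A' ⊗[A] L)).spanFinrank + 1
  set T := D ^ n
  have hloc := fun (m : Ideal A') [m.IsMaximal] => exists_local_identity hC0 A' a' ha' (n := n) (Nat.le_succ _) m
  have hcommT : ∀ (m : Ideal A') [m.IsMaximal] (S : Module.End (Localization.AtPrime m)
      (Localization.AtPrime m ⊗[A'] (A' ⊗[A] L))),
      Commute S (D.baseChange (Localization.AtPrime m)) → Commute S (T.baseChange (Localization.AtPrime m)) :=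
    fun m _ S h => by rw [LinearMap.baseChange_pow]; exact h.pow_right n
  have ha : ∀ y, T (T y) = 0 → T y = 0 := by
    intro y hy
    refine eq_zero_of_tmul_localization (A := A') _ fun m _ => ?_
    obtain ⟨S, hS, hc⟩ := hloc m
    have h1 : (1 : Localization.AtPrime m) ⊗ₜ[A'] T y =
        T.baseChange (Localization.AtPrime m) ((1 : Localization.AtPrime m) ⊗ₜ[A'] y) := rfl
    rw [h1, hS, ((hcommT m S hc).mul_right (hcommT m S hc)).symm.eq, Module.End.mul_apply,
      Module.End.mul_apply, LinearMap.baseChange_tmul, LinearMap.baseChange_tmul, hy, tmul_zero, map_zero]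
  have hb : ∀ y, ∃ z, T y = T (T z) := by
    intro y
    obtain ⟨z, hz⟩ : T y ∈ LinearMap.range (T * T) := by
      refine (Submodule.Quotient.mk_eq_zero _).1 (eq_zero_of_tmul_localization (A := A') _ fun m _ => ?_)
      obtain ⟨S, hS, hc⟩ := hloc m
      change (LinearMap.range (T * T)).mkQ.baseChange _
        (T.baseChange (Localization.AtPrime m) ((1 : Localization.AtPrime m) ⊗ₜ[A'] y)) = 0
      rw [hS, ← LinearMap.baseChange_mul, Module.End.mul_apply]
      generalize S ((1 : Localization.AtPrime m) ⊗ₜ[A'] y) = w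
      induction w using TensorProduct.induction_on with
      | zero => simp
      | add a b ha hb => simp only [map_add, ha, hb, add_zero]
      | tmul c w =>
        rw [LinearMap.baseChange_tmul, LinearMap.baseChange_tmul, Submodule.mkQ_apply,
          (Submodule.Quotient.mk_eq_zero _).2 (LinearMap.mem_range_self (T * T) w), tmul_zero]
    exact ⟨z, hz.symm⟩
  have hker : (LieSubalgebra.engel A' a').toSubmodule = LinearMap.ker T := by
    refine le_antisymm (fun y hy => ?_) fun y hy => (LieSubalgebra.mem_engel_iff A' a' y).2 ⟨n, hy⟩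
    obtain ⟨k, hk⟩ := (LieSubalgebra.mem_engel_iff A' a' y).1 hy
    have h1 : ∀ j, (T ^ (j + 1)) y = 0 → T y = 0 := by
      intro j
      induction j with
      | zero => intro h; rwa [pow_one] at h
      | succ j ih =>
        intro h
        rw [pow_succ', pow_succ', Module.End.mul_apply, Module.End.mul_apply] at h
        exact ih (by rw [pow_succ', Module.End.mul_apply]; exact ha _ h)
    refine h1 k ?_
    rw [← pow_mul]
    exact Module.End.pow_map_zero_of_le (by nlinarith [Nat.zero_le k, (show 1 ≤ n from Nat.le_add_left 1 _)]) hk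
  have hcompl : IsCompl (LinearMap.ker T) (LinearMap.range T) := by
    constructor
    · rw [disjoint_iff, eq_bot_iff]
      rintro _ ⟨h, y, rfl⟩
      exact ha y h
    · rw [codisjoint_iff, eq_top_iff]
      intro y _
      obtain ⟨z, hz⟩ := hb y
      rw [← sub_add_cancel y (T z)]
      exact Submodule.add_mem_sup (by rw [LinearMap.mem_ker, map_sub, hz, sub_self]) ⟨z, rfl⟩
  have hproj : Module.Projective A' ((A' ⊗[A] L) ⧸ (LieSubalgebra.engel A' a').toSubmodule) := by
    haveI : Module.Projective A' (LinearMap.range T) :=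
      Module.Projective.of_split (LinearMap.range T).subtype
        ((LinearMap.range T).projectionOnto (LinearMap.ker T) hcompl.symm)
        (LinearMap.ext fun x => Submodule.projectionOnto_apply_left hcompl.symm x)
    exact Module.Projective.of_equiv ((Submodule.quotEquivOfEq _ _ hker).trans
      (Submodule.quotientEquivOfIsCompl _ _ hcompl)).symm
  refine isCartanRel_engel ha' hproj fun y => ?_
  obtain ⟨z, hz⟩ := hb y
  refine ⟨(D ^ (n - 1)) z, ?_⟩
  change _ ∈ (LieSubalgebra.engel A' a').toSubmodule
  rw [hker, LinearMap.mem_ker, map_sub,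
    show ⁅a', (D ^ (n - 1)) z⁆ = T z from by
      change D ((D ^ (n - 1)) z) = (D ^ n) z
      rw [← Module.End.mul_apply, ← pow_succ']
      rfl, hz, sub_self]

end CartanRelLib
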